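import Groth.Agent.BalQuotLib.Fun
import Groth.Agent.DecSec.GerbeEquiv
import Groth.Agent.DecSec.QuotSpEquiv
/-!
`[Y/G]` is `[Z/H]` for a balanced product `Y = G ×^H Z`.
-/

set_option autoImplicit false
set_option backward.isDefEq.respectTransparency false
set_option backward.isDefEq.respectTransparency.types false
set_option linter.style.haveILetI false
set_option linter.unusedSectionVars false

universe v u

open CategoryTheory CategoryTheory.Limits MonoidalCategory CartesianMonoidalCategory AlgebraicGeometry Opposite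

namespace Groth.Agent.BalQuotLib

open Groth.Agent.ASt Groth.Agent.RepOne Groth.Agent.DecSec

attribute [local instance] Hom.monoid Hom.group

/-- A fully faithful functor of stacks which is locally essentially surjective is an equivalence. -/
theorem isEquivOver_of_ff_locSurj {C : Type u} [Category.{v} C] {J : GrothendieckTopology C}
    {𝒳 𝒴 : BasedCategory.{v, max u v} C} [FibCat.IsFibGrpd 𝒳.p] [FibCat.IsFibGrpd 𝒴.p] (φ : 𝒳 ⥤ᵇ 𝒴)
    [φ.toFunctor.Full] [φ.toFunctor.Faithful] (hX : Stk.IsStack J 𝒳) (hY : Stk.IsStack J 𝒴)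
    (hloc : ∀ y : 𝒴.obj, ∃ R ∈ J (𝒴.p.obj y), ∀ ⦃V : C⦄ (f : V ⟶ 𝒴.p.obj y), R f →
      ∃ (x : 𝒳.obj) (hx : 𝒳.p.obj x = V) (n : φ.obj x ⟶ y), 𝒴.p.map n = eqToHom ((φ.w_obj x).trans hx) ≫ f) :
    FibCat.IsEquivOver φ := by
  refine isEquivOver_of_vert φ fun y => ?_
  obtain ⟨R, hR, h⟩ := hloc y
  choose x hx n hn using fun t : (Stk.sieveCat R).obj => h t.obj.hom t.property
  have hmor : ∀ {t t' : (Stk.sieveCat R).obj} (m : t ⟶ t'), ∃ a : x t ⟶ x t',
      φ.map a ≫ n t' = n t ∧ 𝒳.p.map a = eqToHom (hx t) ≫ m.hom.left ≫ eqToHom (hx t').symm := by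
    intro t t' m
    let d := facMap (n t') (n t)
      (eqToHom ((φ.w_obj _).trans (hx t)) ≫ m.hom.left ≫ eqToHom ((φ.w_obj _).trans (hx t')).symm)
      (by
        rw [hn, hn]
        simp)
    refine ⟨φ.toFunctor.preimage d, ?_, ?_⟩
    · rw [Functor.map_preimage]
      exact facMap_comp _ _ _ _
    · rw [map_preimage, show 𝒴.p.map d = _ from map_facMap _ _ _ _]
      simp
  choose a ha ha' using @hmor
  let D : Stk.sieveCat R ⥤ᵇ 𝒳 :=
    { toFunctor :=
        { obj := x
          map := fun m => a m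
          map_id := fun t => φ.toFunctor.map_injective (ASt.hom_ext (n t)
            (by rw [ASt.map_w, ha', φ.toFunctor.map_id, 𝒴.p.map_id, show (𝟙 t : t ⟶ t).hom.left = 𝟙 t.obj.left from rfl]; simp)
            (by rw [ha, φ.toFunctor.map_id, Category.id_comp]))
          map_comp := fun {t t' t''} m m' => φ.toFunctor.map_injective (ASt.hom_ext (n t'')
            (by rw [ASt.map_w, ha', φ.toFunctor.map_comp, Functor.map_comp, ASt.map_w, ASt.map_w, ha', ha', show (m ≫ m').hom.left = m.hom.left ≫ m'.hom.left from rfl]; simp)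
            (by rw [ha, φ.toFunctor.map_comp, Category.assoc, ha, ha])) }
      w := CategoryTheory.Functor.ext hx fun t t' m => ha' m }
  obtain ⟨c⟩ := (isStack_iff.1 hX R hR).2 D
  let c' : SCone (BasedFunctor.comp D φ) :=
    { pt := y
      base := rfl
      ι := n
      map_ι := fun t => (hn t).trans (congrArg (eqToHom _ ≫ ·) (Category.comp_id _).symm)
      nat := fun m => ha m }
  obtain ⟨k, ⟨hk, -⟩, -⟩ := (isPrestackFor_iff.1 ((isPrestack_of_isStack hY).2 R hR)) _ (c.map φ) c'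
  haveI := isIso_of_vert k hk
  exact ⟨c.pt, c.base, asIso k, hk⟩

variable {S : Scheme.{u}} {G H Z Y : Over S} [GrpObj G] [GrpObj H] (i : H ⟶ G) [IsMonHom i] [Mono i]
  {aZ : AlgGrp.Action H Z} {aY : AlgGrp.Action G Y} {j : G ⊗ Z ⟶ Y}
  (hY : ChGrp.IsBalProd Scheme.fppfPrecoverage i aZ aY j)

variable (A : AlgSt.QuotObj Scheme.fppfPrecoverage G aY)

variable (j) in
/-- The sieve of maps to a torsor which are translates of points of the preimage. -/
def repSieve : Sieve A.P where
  arrows W k := ∃ (g : W ⟶ G) (q : W ⟶ sP j A), k = mv A.act g (q ≫ pullback.fst _ _)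
  downward_closed := fun ⟨g, q, e⟩ l => ⟨l ≫ g, l ≫ q, by rw [e, comp_mv, Category.assoc]⟩

include hY in
theorem repSieve_mem : repSieve j A ∈ QuotSh.J Scheme.fppfPrecoverage S A.P := by
  refine GrothendieckTopology.superset_covering _ ?_
    (GrothendieckTopology.pullback_stable _ A.π (facSieve_mem (fObj i hY A)))
  rintro W k ⟨q, hq⟩
  obtain ⟨g, hg⟩ := exists_mv (q ≫ pullback.fst _ _) k ((Category.assoc _ _ _).trans hq)
  exact ⟨g, q, hg.symm⟩

variable {A} {A' : AlgSt.QuotObj Scheme.fppfPrecoverage G aY}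

include hY in
theorem hom_ext_of_preimage {W : Over S} {a b : A.P ⟶ W} (h : ∀ {V : Over S} (g : V ⟶ G) (q : V ⟶ sP j A),
    mv A.act g (q ≫ pullback.fst _ _) ≫ a = mv A.act g (q ≫ pullback.fst _ _) ≫ b) : a = b :=
  hom_ext_sieve (repSieve_mem i hY A) fun V k hk => by
    obtain ⟨g, q, rfl⟩ := hk
    exact h g q

include hY in
theorem slice_faithful : (slice i hY).toFunctor.Faithful := ⟨fun {A B m n} e => by
  have eb : m.base = n.base := congrArg (fun k => k.base) e
  have et : sMap j m = sMap j n := congrArg (fun k => k.top) e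
  refine AlgSt.QuotObj.hom_ext eb (hom_ext_of_preimage i hY fun g q => ?_)
  rw [mv_top, mv_top, Category.assoc, Category.assoc, ← sMap_fst, ← sMap_fst, et]⟩

include hY in
theorem exists_top (n : fObj i hY A ⟶ fObj i hY A') : ∃ t : A.P ⟶ A'.P, ∀ {W : Over S} (g : W ⟶ G) (q : W ⟶ sP j A),
    mv A.act g (q ≫ pullback.fst _ _) ≫ t = mv A'.act g ((q ≫ n.top) ≫ pullback.fst _ _) := by
  have ind : ∀ {W : Over S} (g g' : W ⟶ G) (q q' : W ⟶ sP j A),
      mv A.act g (q ≫ pullback.fst _ _) = mv A.act g' (q' ≫ pullback.fst _ _) →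
      mv A'.act g ((q ≫ n.top) ≫ pullback.fst _ _) = mv A'.act g' ((q' ≫ n.top) ≫ pullback.fst _ _) := by
    intro W g g' q q' e
    have e1 := congrArg (· ≫ A.π) e
    beta_reduce at e1
    rw [mv_π, mv_π, Category.assoc, Category.assoc] at e1
    obtain ⟨h, hh⟩ := exists_mv (A := fObj i hY A) q q' e1
    subst hh
    have h1 : mv (sAct i hY A) h q ≫ n.top = mv (sAct i hY A') h (q ≫ n.top) := mv_top (A := fObj i hY A) n h q
    replace e : mv A.act g (q ≫ pullback.fst _ _) = mv A.act g' (mv (sAct i hY A) h q ≫ pullback.fst _ _) := e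
    rw [mv_sAct_fst i hY, mv_mv] at e
    rw [show mv (fObj i hY A).act h q ≫ n.top = _ from h1, mv_sAct_fst i hY, mv_mv, mv_injective e]
  obtain ⟨t, ht, -⟩ := existsUnique_glue (repSieve_mem i hY A)
    (fun W k hk => mv A'.act hk.choose ((hk.choose_spec.choose ≫ n.top) ≫ pullback.fst _ _))
    fun W W' k hk l => by
      rw [comp_mv]
      simp only [← Category.assoc l]
      refine ind _ _ _ _ ?_
      rw [← ((repSieve j A).downward_closed hk l).choose_spec.choose_spec, Category.assoc l, ← comp_mv]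
      exact congrArg (l ≫ ·) hk.choose_spec.choose_spec.symm
  refine ⟨t, fun {W} g q => ?_⟩
  have hk : repSieve j A (mv A.act g (q ≫ pullback.fst _ _)) := ⟨g, q, rfl⟩
  rw [ht _ hk]
  exact ind _ _ _ _ hk.choose_spec.choose_spec.symm

include hY in
theorem slice_full : (slice i hY).toFunctor.Full := ⟨fun {A B} n => by
  obtain ⟨t, ht⟩ := exists_top i hY n
  have hπ : t ≫ B.π = A.π ≫ n.base := hom_ext_of_preimage i hY fun g q => by
    rw [← Category.assoc, ht, mv_π, ← Category.assoc (mv A.act g _), mv_π, Category.assoc, Category.assoc]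
    exact (congrArg (q ≫ ·) n.cart.w).trans (congrArg (q ≫ ·) (Category.assoc _ _ _))
  have heqv : ∀ {W : Over S} (g : W ⟶ G) (p : W ⟶ A.P), mv A.act g p ≫ t = mv B.act g (p ≫ t) := fun {W} g p => by
    refine hom_ext_sieve (GrothendieckTopology.pullback_stable _ p (repSieve_mem i hY A)) fun V k hk => ?_
    obtain ⟨g₀, q, hq⟩ := hk
    rw [← Category.assoc, comp_mv, hq, mv_mv, ht, comp_mv, ← Category.assoc k p, hq, ht, mv_mv]
  have hφ : t ≫ B.φ = A.φ := hom_ext_of_preimage i hY fun g q => by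
    rw [← Category.assoc, ht, mv_φ, mv_φ, Category.assoc, Category.assoc, pullback.condition, Category.assoc,
      ← Category.assoc n.top, show n.top ≫ pullback.snd _ _ = pullback.snd _ _ from n.wφ, pullback.condition]
  refine ⟨{ base := n.base, top := t, eqv := ?_, cart := isPullback_of_eqv (A := A) (B := B) n.base t hπ heqv, wφ := hφ },
    AlgSt.QuotObj.hom_ext rfl ?_⟩
  · rw [← mv_eq A.act, heqv, mv, ← lift_whiskerLeft]
    simp
  · change sMap j _ = n.top
    apply pullback.hom_ext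
    · rw [sMap_fst]
      have := ht 1 (𝟙 (sP j A))
      rw [mv_one, mv_one, Category.id_comp, Category.id_comp] at this
      exact this
    · rw [sMap_snd]
      exact n.wφ.symm⟩

include hY in
theorem slice_locSurj (B : (AlgSt.QuotSt Scheme.fppfPrecoverage H aZ).obj) :
    ∃ R ∈ QuotSh.J Scheme.fppfPrecoverage S B.base, ∀ ⦃V : Over S⦄ (f : V ⟶ B.base), R f →
      ∃ (x : (AlgSt.QuotSt Scheme.fppfPrecoverage G aY).obj)
        (hx : x.base = V) (n : (slice i hY).obj x ⟶ B), n.base = eqToHom hx ≫ f := by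
  refine ⟨facSieve B, facSieve_mem B, fun V f hf => ?_⟩
  obtain ⟨l, hl⟩ := hf
  let z : V ⟶ Z := l ≫ B.φ
  let X := QuotSch.qObj Scheme.fppfPrecoverage G aY (z ≫ jz j)
  have hu : QuotSch.unitSec V ≫ X.φ = z ≫ jz j := QuotSch.unitSec_triv aY _
  let s : V ⟶ sP j X := pullback.lift (QuotSch.unitSec V) z hu
  have hs : s ≫ (fObj i hY X).π = 𝟙 V := by
    change s ≫ pullback.fst _ _ ≫ X.π = 𝟙 V
    rw [← Category.assoc, pullback.lift_fst]
    exact QuotSch.unitSec_snd V
  obtain ⟨m₁, ⟨hm₁, -⟩, -⟩ := QuotSch.existsUnique_hom z (fObj i hY X) (𝟙 V) s hs (pullback.lift_snd _ _ _)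
  obtain ⟨m₂, ⟨hm₂, -⟩, -⟩ := QuotSch.existsUnique_hom z B f l hl rfl
  haveI : FibCat.IsFibGrpd (AlgSt.QuotSt Scheme.fppfPrecoverage H aZ).p := QuotSch.isFibGrpd_quot
  haveI : IsIso m₁ := isIso_of_vert (𝒳 := AlgSt.QuotSt Scheme.fppfPrecoverage H aZ) m₁ (e := rfl) hm₁
  refine ⟨X, rfl, inv m₁ ≫ m₂, ?_⟩
  have h1 : (inv m₁).base ≫ m₁.base = 𝟙 V := congrArg (fun k => k.base) (IsIso.inv_hom_id m₁)
  rw [hm₁] at h1
  have h2 : (inv m₁).base = 𝟙 V := (Category.comp_id _).symm.trans h1
  change (inv m₁).base ≫ m₂.base = _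
  rw [h2, hm₂]
  rfl

include hY in
/-- The stack of a balanced product is the quotient stack of the slice. -/
theorem isQuotientOf_balProd [IsAffineHom G.hom] [IsAffineHom H.hom] :
    AlgSt.IsQuotientOf Scheme.fppfPrecoverage H aZ (AlgSt.QuotSt Scheme.fppfPrecoverage G aY) := by
  haveI : FibCat.IsFibGrpd (AlgSt.QuotSt Scheme.fppfPrecoverage G aY).p := QuotSch.isFibGrpd_quot
  haveI : FibCat.IsFibGrpd (AlgSt.QuotSt Scheme.fppfPrecoverage H aZ).p := QuotSch.isFibGrpd_quot
  haveI := slice_faithful i hY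
  haveI := slice_full i hY
  obtain ⟨F, hF, -, -⟩ := ASt.isEquivOver_symm (isEquivOver_of_ff_locSurj (slice i hY) QuotSch.isStack_quot
    QuotSch.isStack_quot (slice_locSurj i hY))
  exact ⟨F, hF⟩

end Groth.Agent.BalQuotLib
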