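import Groth.Agent.BalQuotLib.Equiv
/-!
A homogeneous space times a scheme with action is a balanced product.
-/

set_option autoImplicit false
set_option backward.isDefEq.respectTransparency false
set_option backward.isDefEq.respectTransparency.types false
set_option linter.style.haveILetI false
set_option linter.unusedSectionVars false

universe u

open CategoryTheory CategoryTheory.Limits MonoidalCategory CartesianMonoidalCategory AlgebraicGeometry Opposite

namespace Groth.Agent.BalQuotLib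

attribute [local instance] Hom.monoid Hom.group

variable {S : Scheme.{u}} {G H X Q : Over S} [GrpObj G] [GrpObj H] (i : H ⟶ G) [IsMonHom i]
  (aX : AlgGrp.Action G X) (aQ : AlgGrp.Action G Q) (q₀ : 𝟙_ (Over S) ⟶ Q)

/-- The map `(g, x) ↦ (g q₀, g x)`. -/
noncomputable def homJ : G ⊗ X ⟶ Q ⊗ X := lift (fst G X ≫ aQ.orbitMap q₀) aX.act

theorem lift_homJ {W : Over S} (g : W ⟶ G) (x : W ⟶ X) :
    lift g x ≫ homJ aX aQ q₀ = lift (g ≫ aQ.orbitMap q₀) (mv aX g x) := by
  rw [homJ, comp_lift, lift_fst_assoc]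

theorem eq_lift {W : Over S} (k : W ⟶ G ⊗ X) : k = lift (k ≫ fst G X) (k ≫ snd G X) := by
  rw [← comp_lift, lift_fst_snd, Category.comp_id]

theorem orbit_mul {W : Over S} (γ g : W ⟶ G) :
    mv aQ γ (g ≫ aQ.orbitMap q₀) = (γ * g) ≫ aQ.orbitMap q₀ := by
  rw [AlgGrp.Action.comp_orbitMap, AlgGrp.Action.comp_orbitMap, mv, AlgGrp.Action.lift_mul_act]

variable {i aQ q₀}

theorem isBalProd_homog (hQ : ChGrp.IsHomog Scheme.fppfPrecoverage i aQ q₀) :
    ChGrp.IsBalProd Scheme.fppfPrecoverage i (aX.restrict i) (aQ.prod aX) (homJ aX aQ q₀) := by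
  have hp : ∀ {W : Over S} (g h : W ⟶ G) (k : W ⟶ H), g * (k ≫ i) = h → h ≫ aQ.orbitMap q₀ = g ≫ aQ.orbitMap q₀ := by
    intro W g h k e
    have e' := congrArg (lift g k ≫ ·) hQ.2.1.w
    simp only [← Category.assoc, lift_fst, lift_whiskerLeft, ← Hom.mul_def, e] at e'
    exact e'.symm
  refine ⟨?_, ?_, ?_⟩
  · apply AlgGrp.Action.hom_ext_lift₂
    intro T γ p
    rw [eq_lift p, AlgGrp.Action.lift_prod_act_assoc, AlgGrp.Action.lift_trivial_act, lift_homJ, lift_whiskerLeft_assoc,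
      lift_homJ, AlgGrp.Action.lift_prod_act, show lift γ (p ≫ fst G X) ≫ (NonAbH1.trivialAction G).act =
        γ * (p ≫ fst G X) from (Hom.mul_def _ _).symm]
    exact congrArg₂ (fun a b => lift a b) (orbit_mul aQ q₀ _ _).symm (AlgGrp.Action.lift_mul_act aX _ _ _)
  · have w : (ChGrp.twist i (aX.restrict i)).act ≫ homJ aX aQ q₀ = snd H (G ⊗ X) ≫ homJ aX aQ q₀ := by
      apply AlgGrp.Action.hom_ext_lift₂
      intro T h p
      rw [lift_snd_assoc, eq_lift p, ← Category.assoc, ChGrp.lift_twist_act, lift_homJ, lift_homJ,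
        AlgGrp.Action.lift_restrict_act, mv_mv, inv_mul_cancel_right]
      congr 1
      exact (hp _ _ h (by rw [inv_mul_cancel_right])).symm
    refine isPullback_of_points w fun {W} p p' e => ?_
    rw [eq_lift p, eq_lift p', lift_homJ, lift_homJ] at e
    have e1 := congrArg (· ≫ fst Q X) e
    have e2 := congrArg (· ≫ snd Q X) e
    simp only [lift_fst] at e1
    simp only [lift_snd] at e2
    obtain ⟨k, hk⟩ : ∃ k : W ⟶ H, (p ≫ fst G X) * (k ≫ i) = p' ≫ fst G X := by
      let c := hQ.2.1.lift (p ≫ fst G X) (p' ≫ fst G X) e1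
      have c1 : c ≫ fst G H = p ≫ fst G X := hQ.2.1.lift_fst _ _ _
      have c2 : c ≫ (G ◁ i) ≫ MonObj.mul = p' ≫ fst G X := hQ.2.1.lift_snd _ _ _
      refine ⟨c ≫ snd G H, ?_⟩
      rw [← c2, ← c1, Hom.mul_def, ← lift_whiskerLeft_assoc, ← comp_lift, lift_fst_snd, Category.comp_id]
    have hx : p ≫ snd G X = mv aX (k ≫ i) (p' ≫ snd G X) := by
      rw [← mv_inv_mv aX (p ≫ fst G X) (p ≫ snd G X), e2, mv_mv, ← hk, inv_mul_cancel_left]
    have hm : lift k p' ≫ (ChGrp.twist i (aX.restrict i)).act = p := by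
      conv_lhs => rw [eq_lift p']
      rw [ChGrp.lift_twist_act, AlgGrp.Action.lift_restrict_act, ← hk, mul_inv_cancel_right,
        show lift (k ≫ i) (p' ≫ snd G X) ≫ aX.act = mv aX (k ≫ i) (p' ≫ snd G X) from rfl, ← hx, ← eq_lift]
    refine ⟨lift k p', ⟨hm, lift_snd _ _⟩, fun m hm' => ?_⟩
    have hm2 : m = lift (m ≫ fst H _) p' :=
      CartesianMonoidalCategory.hom_ext _ _ (lift_fst _ _).symm (hm'.2.trans (lift_snd _ _).symm)
    have e3 := congrArg (· ≫ fst G X) hm'.1
    beta_reduce at e3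
    rw [hm2, eq_lift p', ChGrp.lift_twist_act, lift_fst, ← hk, mul_inv_eq_iff_eq_mul, mul_left_cancel_iff] at e3
    let z := lift (p ≫ fst G X) (m ≫ fst H _)
    have : z = lift (p ≫ fst G X) k := hQ.2.1.hom_ext (by rw [lift_fst, lift_fst])
      (by simp only [z, lift_whiskerLeft_assoc]; rw [e3])
    have e4 : m ≫ fst H _ = k := by simpa [z] using congrArg (· ≫ snd G H) this
    rw [hm2, e4]
  · obtain ⟨R, hR, hsec⟩ := hQ.2.2
    obtain ⟨I, Ys, f, rfl⟩ := Presieve.exists_eq_ofArrows R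
    choose t ht using fun b => hsec (f b) (Presieve.ofArrows.mk b)
    refine ⟨Presieve.ofArrows (fun b => pullback (f b) (fst Q X).left) (fun b => pullback.snd (f b) (fst Q X).left),
      Precoverage.mem_coverings_of_isPullback f hR (fst Q X).left _ (fun b => pullback.fst _ _)
        (fun b => (IsPullback.of_hasPullback _ _).flip), ?_⟩
    rintro _ _ ⟨b⟩
    let W : Over S := Over.mk (pullback.snd (f b) (fst Q X).left ≫ (Q ⊗ X).hom)
    let π : W ⟶ Q ⊗ X := Over.homMk (pullback.snd (f b) (fst Q X).left) rfl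
    have htb : t b ≫ (aQ.orbitMap q₀).left = f b := ht b
    have hl : (pullback.fst (f b) (fst Q X).left ≫ t b) ≫ (aQ.orbitMap q₀).left = (π ≫ fst Q X).left := by
      rw [Category.assoc, htb]
      exact pullback.condition
    let g : W ⟶ G := Over.homMk (pullback.fst (f b) (fst Q X).left ≫ t b) (by
      rw [← Over.w (aQ.orbitMap q₀), ← Category.assoc, hl]
      exact Over.w (π ≫ fst Q X))
    have hg : g ≫ aQ.orbitMap q₀ = π ≫ fst Q X := Over.OverMorphism.ext hl
    refine ⟨(lift g (mv aX g⁻¹ (π ≫ snd Q X))).left, ?_⟩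
    change (lift g (mv aX g⁻¹ (π ≫ snd Q X))).left ≫ (homJ aX aQ q₀).left = π.left
    rw [← Over.comp_left, lift_homJ, hg, mv_mv, mul_inv_cancel, mv_one, ← comp_lift, lift_fst_snd, Category.comp_id]

end Groth.Agent.BalQuotLib
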