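import Groth.Agent.BGPointLib.Functor
import Groth.Agent.DecSec.QuotTriv
import Groth.Prelude.Def_ChGrp
/-!
Torsors for the fppf topology: gluing morphisms and recognising morphisms of torsors.
-/

set_option autoImplicit false
set_option backward.isDefEq.respectTransparency false
set_option backward.isDefEq.respectTransparency.types false
set_option linter.style.haveILetI false

universe u

open CategoryTheory CategoryTheory.Limits MonoidalCategory CartesianMonoidalCategory AlgebraicGeometry Opposite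

namespace Groth.Agent.BalQuotLib

attribute [local instance] Hom.monoid Hom.group

variable {S : Scheme.{u}}

instance : (QuotSh.J Scheme.fppfPrecoverage.{u} S).Subcanonical :=
  inferInstanceAs (Scheme.fppfTopology.over S).Subcanonical

/-- Compatible morphisms on a covering sieve glue uniquely. -/
theorem existsUnique_glue {W : Over S} {T : Sieve W} (hT : T ∈ QuotSh.J Scheme.fppfPrecoverage S W) {Y : Over S}
    (x : ∀ ⦃W' : Over S⦄ (k : W' ⟶ W), T k → (W' ⟶ Y))
    (hx : ∀ ⦃W' W'' : Over S⦄ (k : W' ⟶ W) (hk : T k) (j : W'' ⟶ W'),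
      j ≫ x k hk = x (j ≫ k) (T.downward_closed hk j)) :
    ∃! l : W ⟶ Y, ∀ ⦃W' : Over S⦄ (k : W' ⟶ W) (hk : T k), k ≫ l = x k hk :=
  (GrothendieckTopology.Subcanonical.isSheaf_of_isRepresentable (J := QuotSh.J Scheme.fppfPrecoverage S)
      (yoneda.obj Y)) T hT x ((Presieve.compatible_iff_sieveCompatible _).2 fun W' W'' k j hk => (hx k hk j).symm)

/-- Morphisms agree if they agree on a covering sieve. -/
theorem hom_ext_sieve {W Y : Over S} {T : Sieve W} (hT : T ∈ QuotSh.J Scheme.fppfPrecoverage S W) {a b : W ⟶ Y}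
    (h : ∀ ⦃W' : Over S⦄ (k : W' ⟶ W), T k → k ≫ a = k ≫ b) : a = b :=
  (existsUnique_glue hT (fun W' k _ => k ≫ a) fun W' W'' k _ j => (Category.assoc _ _ _).symm).unique
    (fun _ _ _ => rfl) fun _ k hk => (h k hk).symm

/-- A cartesian square recognised on points. -/
theorem isPullback_of_points {P X Y T : Over S} {a : P ⟶ X} {b : P ⟶ Y} {f : X ⟶ T} {g : Y ⟶ T}
    (w : a ≫ f = b ≫ g)
    (h : ∀ {W : Over S} (x : W ⟶ X) (y : W ⟶ Y), x ≫ f = y ≫ g → ∃! p : W ⟶ P, p ≫ a = x ∧ p ≫ b = y) :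
    IsPullback a b f g :=
  ⟨⟨w⟩, ⟨PullbackCone.IsLimit.mk _ (fun c => (h c.fst c.snd c.condition).choose)
    (fun c => (h c.fst c.snd c.condition).choose_spec.1.1) (fun c => (h c.fst c.snd c.condition).choose_spec.1.2)
    fun c m h₁ h₂ => (h c.fst c.snd c.condition).choose_spec.2 m ⟨h₁, h₂⟩⟩⟩

variable {G : Over S} [GrpObj G] {X : Over S} {aX : AlgGrp.Action G X}

/-- The point of a scheme with action moved by a group element. -/
noncomputable abbrev mv {P : Over S} (a : AlgGrp.Action G P) {W : Over S} (g : W ⟶ G) (p : W ⟶ P) : W ⟶ P :=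
  lift g p ≫ a.act

theorem comp_mv {P : Over S} (a : AlgGrp.Action G P) {W' W : Over S} (k : W' ⟶ W) (g : W ⟶ G) (p : W ⟶ P) :
    k ≫ mv a g p = mv a (k ≫ g) (k ≫ p) := by
  rw [← Category.assoc, comp_lift]

theorem mv_one {P : Over S} (a : AlgGrp.Action G P) {W : Over S} (p : W ⟶ P) : mv a 1 p = p :=
  AlgGrp.Action.lift_one_act a p

theorem mv_mv {P : Over S} (a : AlgGrp.Action G P) {W : Over S} (g h : W ⟶ G) (p : W ⟶ P) :
    mv a g (mv a h p) = mv a (g * h) p :=
  (AlgGrp.Action.lift_mul_act a g h p).symm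

theorem mv_eq {P : Over S} (a : AlgGrp.Action G P) : mv a (fst G P) (snd G P) = a.act := by simp [mv]

theorem mv_inv_mv {P : Over S} (a : AlgGrp.Action G P) {W : Over S} (g : W ⟶ G) (p : W ⟶ P) :
    mv a g⁻¹ (mv a g p) = p := by
  rw [mv_mv, inv_mul_cancel, mv_one]

variable {A B : AlgSt.QuotObj Scheme.fppfPrecoverage G aX}

theorem mv_π {W : Over S} (g : W ⟶ G) (p : W ⟶ A.P) : mv A.act g p ≫ A.π = p ≫ A.π := by
  rw [Category.assoc, A.cart.w, lift_snd_assoc]

theorem mv_φ {W : Over S} (g : W ⟶ G) (p : W ⟶ A.P) : mv A.act g p ≫ A.φ = mv aX g (p ≫ A.φ) := by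
  rw [Category.assoc, A.eqv, ← Category.assoc, lift_whiskerLeft]

theorem mv_injective {W : Over S} {g h : W ⟶ G} {p : W ⟶ A.P} (e : mv A.act g p = mv A.act h p) : g = h := by
  have := A.cart.hom_ext (e : lift g p ≫ A.act.act = lift h p ≫ A.act.act)
    (show lift g p ≫ snd G A.P = lift h p ≫ snd G A.P by rw [lift_snd, lift_snd])
  simpa using congrArg (fun m => m ≫ fst G A.P) this

theorem exists_mv {W : Over S} (p q : W ⟶ A.P) (e : p ≫ A.π = q ≫ A.π) : ∃ g : W ⟶ G, mv A.act g p = q := by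
  refine ⟨A.cart.lift q p e.symm ≫ fst G A.P, ?_⟩
  have : lift (A.cart.lift q p e.symm ≫ fst G A.P) p = A.cart.lift q p e.symm := by
    apply CartesianMonoidalCategory.hom_ext
    · rw [lift_fst]
    · rw [lift_snd, A.cart.lift_snd]
  rw [mv, this, A.cart.lift_fst]

variable (A) in
/-- The sieve of maps which lift to the torsor. -/
def facSieve : Sieve A.base where
  arrows W k := ∃ p : W ⟶ A.P, p ≫ A.π = k
  downward_closed := fun ⟨p, hp⟩ j => ⟨j ≫ p, by rw [Category.assoc, hp]⟩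

variable (A) in
theorem facSieve_mem : facSieve A ∈ QuotSh.J Scheme.fppfPrecoverage S A.base := by
  obtain ⟨R, hR, hs⟩ := A.loc
  change _ ∈ (Scheme.fppfPrecoverage.toGrothendieck.over S) A.base
  rw [GrothendieckTopology.mem_over_iff]
  refine Scheme.fppfPrecoverage.toGrothendieck.superset_covering ?_ (Precoverage.generate_mem_toGrothendieck hR)
  rintro T h ⟨Z, k, f, hf, rfl⟩
  obtain ⟨s, hs⟩ := hs f hf
  rw [Sieve.overEquiv_iff]
  let s' : Over.mk (f ≫ A.base.hom) ⟶ A.P := Over.homMk s (by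
    change s ≫ A.P.hom = f ≫ A.base.hom
    rw [← Over.w A.π, ← Category.assoc]
    exact congrArg (· ≫ A.base.hom) hs)
  let k' : Over.mk ((k ≫ f) ≫ A.base.hom) ⟶ Over.mk (f ≫ A.base.hom) :=
    Over.homMk k (Category.assoc _ _ _).symm
  exact ⟨k' ≫ s', Over.OverMorphism.ext ((Category.assoc _ _ _).trans (congrArg (k ≫ ·) hs))⟩

/-- An equivariant map of torsors over a map of bases is a morphism of torsors. -/
theorem isPullback_of_eqv (b : A.base ⟶ B.base) (t : A.P ⟶ B.P) (w : t ≫ B.π = A.π ≫ b)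
    (ht : ∀ {W : Over S} (g : W ⟶ G) (p : W ⟶ A.P), mv A.act g p ≫ t = mv B.act g (p ≫ t)) :
    IsPullback t A.π B.π b := by
  have inj : ∀ {W : Over S} (p₁ p₂ : W ⟶ A.P), p₁ ≫ t = p₂ ≫ t → p₁ ≫ A.π = p₂ ≫ A.π → p₁ = p₂ := by
    intro W p₁ p₂ e₁ e₂
    obtain ⟨g, rfl⟩ := exists_mv p₁ p₂ e₂
    rw [ht] at e₁
    have : g = 1 := mv_injective (e₁.symm.trans (mv_one _ _).symm)
    rw [this, mv_one]
  refine isPullback_of_points w fun {W} x y e => ?_
  have hT : (facSieve A).pullback y ∈ QuotSh.J Scheme.fppfPrecoverage S W :=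
    GrothendieckTopology.pullback_stable _ _ (facSieve_mem A)
  have key : ∀ ⦃W' : Over S⦄ (k : W' ⟶ W), (facSieve A).pullback y k →
      ∃ p : W' ⟶ A.P, p ≫ t = k ≫ x ∧ p ≫ A.π = k ≫ y := by
    rintro W' k ⟨p, hp⟩
    obtain ⟨g, hg⟩ := exists_mv (p ≫ t) (k ≫ x) (by
      rw [Category.assoc, w, reassoc_of% hp, Category.assoc, e])
    exact ⟨mv A.act g p, by rw [ht, hg], by rw [mv_π, hp]⟩
  choose p hp₁ hp₂ using key
  obtain ⟨l, hl, -⟩ := existsUnique_glue hT p fun W' W'' k hk j =>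
    inj _ _ (by rw [Category.assoc, hp₁, hp₁, Category.assoc]) (by rw [Category.assoc, hp₂, hp₂, Category.assoc])
  have hl₁ : l ≫ t = x := hom_ext_sieve hT fun W' k hk => by rw [← Category.assoc, hl k hk, hp₁]
  have hl₂ : l ≫ A.π = y := hom_ext_sieve hT fun W' k hk => by rw [← Category.assoc, hl k hk, hp₂]
  exact ⟨l, ⟨hl₁, hl₂⟩, fun m hm => inj _ _ (hm.1.trans hl₁.symm) (hm.2.trans hl₂.symm)⟩

end Groth.Agent.BalQuotLib
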