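import Groth.Agent.BalQuotLib.Basic
/-!
The functor from `[Y/G]` to `[Z/H]` for a balanced product `Y = G ×^H Z`.
-/

set_option autoImplicit false
set_option backward.isDefEq.respectTransparency false
set_option backward.isDefEq.respectTransparency.types false
set_option linter.style.haveILetI false
set_option linter.unusedSectionVars false

universe u

open CategoryTheory CategoryTheory.Limits MonoidalCategory CartesianMonoidalCategory AlgebraicGeometry Opposite

namespace Groth.Agent.BalQuotLib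

attribute [local instance] Hom.monoid Hom.group

variable {S : Scheme.{u}}

/-- An action restricted to a stable subobject. -/
@[reducible] noncomputable def subAction {H : Over S} [GrpObj H] {P Q : Over S} (a : AlgGrp.Action H Q) (e : P ⟶ Q)
    [Mono e] (f : H ⊗ P ⟶ P) (h : f ≫ e = (H ◁ e) ≫ a.act) : AlgGrp.Action H P where
  act := f
  one_act := by
    rw [← cancel_mono e, Category.assoc, h, ← whisker_exchange_assoc, a.one_act, leftUnitor_hom, leftUnitor_hom,
      whiskerLeft_snd]
  mul_act := by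
    rw [← cancel_mono e, Category.assoc, h, ← whisker_exchange_assoc, a.mul_act]
    simp only [Category.assoc]
    rw [h, ← MonoidalCategory.whiskerLeft_comp_assoc H f e, h, MonoidalCategory.whiskerLeft_comp_assoc,
      ← associator_naturality_right_assoc]

variable {G H Z Y : Over S} [GrpObj G] [GrpObj H] (i : H ⟶ G) [IsMonHom i] [Mono i]
  {aZ : AlgGrp.Action H Z} {aY : AlgGrp.Action G Y} {j : G ⊗ Z ⟶ Y}
  (hY : ChGrp.IsBalProd Scheme.fppfPrecoverage i aZ aY j)

variable (j) in
/-- The map of the slice. -/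
noncomputable def jz : Z ⟶ Y := lift (1 : Z ⟶ G) (𝟙 Z) ≫ j

variable (j) in
theorem comp_jz {W : Over S} (z : W ⟶ Z) : z ≫ jz j = lift 1 z ≫ j := by
  rw [jz, ← Category.assoc, comp_lift, Category.comp_id, MonObj.comp_one]

include hY in
theorem mv_pair {W : Over S} (γ g : W ⟶ G) (z : W ⟶ Z) : mv aY γ (lift g z ≫ j) = lift (γ * g) z ≫ j := by
  have h := congrArg (lift γ (lift g z) ≫ ·) hY.1
  simp only [AlgGrp.Action.lift_prod_act_assoc, AlgGrp.Action.lift_trivial_act, lift_whiskerLeft_assoc] at h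
  exact (h.symm.trans (congrArg (fun q => lift q z ≫ j) ((Hom.mul_def γ g).symm.trans rfl)))

include hY in
theorem pair_eq {W : Over S} (g : W ⟶ G) (z : W ⟶ Z) : lift g z ≫ j = mv aY g (z ≫ jz j) := by
  rw [comp_jz, mv_pair i hY, mul_one]

include hY in
theorem mv_jz {W : Over S} (h : W ⟶ H) (z : W ⟶ Z) : mv aY (h ≫ i) (z ≫ jz j) = mv aZ h z ≫ jz j := by
  rw [← pair_eq i hY, comp_jz]
  have e := congrArg (lift h (lift (h ≫ i) z) ≫ ·) hY.2.1.w
  simp only [← Category.assoc, lift_snd, ChGrp.lift_twist_act, mul_inv_cancel] at e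
  exact e.symm

include hY in
theorem exists_of_mv_jz {W : Over S} (g : W ⟶ G) (z z' : W ⟶ Z) (e : mv aY g (z ≫ jz j) = z' ≫ jz j) :
    ∃ h : W ⟶ H, h ≫ i = g ∧ mv aZ h z = z' := by
  rw [← pair_eq i hY, comp_jz] at e
  let q := hY.2.1.lift (lift 1 z') (lift g z) e.symm
  have h2 : q ≫ snd H (G ⊗ Z) = lift g z := hY.2.1.lift_snd _ _ _
  have hq : q = lift (q ≫ fst _ _) (lift g z) :=
    CartesianMonoidalCategory.hom_ext _ _ (lift_fst _ _).symm (h2.trans (lift_snd _ _).symm)
  have h1 : q ≫ (ChGrp.twist i aZ).act = lift 1 z' := hY.2.1.lift_fst _ _ _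
  rw [hq, ChGrp.lift_twist_act] at h1
  have ha := congrArg (· ≫ fst G Z) h1
  have hb := congrArg (· ≫ snd G Z) h1
  simp only [lift_fst] at ha
  simp only [lift_snd] at hb
  exact ⟨q ≫ fst _ _, (mul_inv_eq_one.1 ha).symm, hb⟩

theorem comp_i_injective {W : Over S} {h h' : W ⟶ H} (e : h ≫ i = h' ≫ i) : h = h' := (cancel_mono i).1 e

variable (A : AlgSt.QuotObj Scheme.fppfPrecoverage G aY)

variable (j) in
/-- The preimage of the slice in a torsor. -/
noncomputable abbrev sP : Over S := pullback A.φ (jz j)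

/-- The product action on the torsor and the slice. -/
noncomputable abbrev ambAct (aZ : AlgGrp.Action H Z) : AlgGrp.Action H (A.P ⊗ Z) :=
  (A.act.restrict i).prod aZ

variable (j) in
/-- The inclusion of the preimage. -/
noncomputable abbrev sIncl : sP j A ⟶ A.P ⊗ Z := lift (pullback.fst _ _) (pullback.snd _ _)

instance : Mono (sIncl j A) where
  right_cancellation a b e := by
    apply pullback.hom_ext
    · simpa using congrArg (· ≫ fst A.P Z) e
    · simpa using congrArg (· ≫ snd A.P Z) e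

include hY in
theorem sAct_cond : lift (fst H (sP j A) ≫ i) (snd H (sP j A) ≫ pullback.fst _ _) ≫ A.act.act ≫ A.φ =
    lift (fst H (sP j A)) (snd H (sP j A) ≫ pullback.snd _ _) ≫ aZ.act ≫ jz j := by
  rw [← Category.assoc, ← Category.assoc]
  refine (mv_φ (A := A) _ _).trans ?_
  rw [Category.assoc, pullback.condition, ← Category.assoc (snd H (sP j A))]
  exact mv_jz i hY _ _

/-- The action on the preimage. -/
@[reducible] noncomputable def sAct : AlgGrp.Action H (sP j A) :=
  subAction (ambAct i A aZ) (sIncl j A)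
    (pullback.lift (mv A.act (fst H _ ≫ i) (snd H _ ≫ pullback.fst _ _))
      (mv aZ (fst H _) (snd H _ ≫ pullback.snd _ _)) ((Category.assoc _ _ _).trans
        ((sAct_cond i hY A).trans (Category.assoc _ _ _).symm))) (by
    have e : H ◁ sIncl j A = lift (fst H _) (lift (snd H _ ≫ pullback.fst _ _) (snd H _ ≫ pullback.snd _ _)) := by
      apply CartesianMonoidalCategory.hom_ext
      · rw [whiskerLeft_fst, lift_fst]
      · rw [whiskerLeft_snd, lift_snd, comp_lift]
    rw [e, AlgGrp.Action.lift_prod_act, AlgGrp.Action.lift_restrict_act, comp_lift, pullback.lift_fst,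
      pullback.lift_snd])

theorem mv_sAct_fst {W : Over S} (h : W ⟶ H) (p : W ⟶ sP j A) :
    mv (sAct i hY A) h p ≫ pullback.fst _ _ = mv A.act (h ≫ i) (p ≫ pullback.fst _ _) := by
  rw [mv, sAct, Category.assoc, pullback.lift_fst, comp_mv]
  simp [mv]

theorem mv_sAct_snd {W : Over S} (h : W ⟶ H) (p : W ⟶ sP j A) :
    mv (sAct i hY A) h p ≫ pullback.snd _ _ = mv aZ h (p ≫ pullback.snd _ _) := by
  rw [mv, sAct, Category.assoc, pullback.lift_snd, comp_mv]
  simp [mv]

variable (j) in
/-- The projection of the preimage. -/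
noncomputable abbrev sπ : sP j A ⟶ A.base := pullback.fst _ _ ≫ A.π

include hY in
theorem sCart : IsPullback (sAct i hY A).act (snd H (sP j A)) (sπ j A) (sπ j A) := by
  have w : (sAct i hY A).act ≫ sπ j A = snd H (sP j A) ≫ sπ j A := by
    rw [← mv_eq (sAct i hY A), ← Category.assoc, mv_sAct_fst, mv_π, Category.assoc]
  refine isPullback_of_points w fun {W} x y e => ?_
  obtain ⟨g, hg⟩ := exists_mv (y ≫ pullback.fst _ _) (x ≫ pullback.fst _ _)
    (by simpa only [Category.assoc] using e.symm)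
  have e' : mv aY g ((y ≫ pullback.snd _ _) ≫ jz j) = (x ≫ pullback.snd _ _) ≫ jz j := by
    rw [Category.assoc, Category.assoc, ← pullback.condition, ← Category.assoc, ← mv_φ, hg, Category.assoc]
  obtain ⟨h, hi, hz⟩ := exists_of_mv_jz i hY g _ _ e'
  have hx : mv (sAct i hY A) h y = x := by
    apply pullback.hom_ext
    · rw [mv_sAct_fst, hi, hg]
    · rw [mv_sAct_snd, hz]
  refine ⟨lift h y, ⟨hx, lift_snd _ _⟩, fun m hm => ?_⟩
  have hm' : m = lift (m ≫ fst _ _) y :=
    CartesianMonoidalCategory.hom_ext _ _ (lift_fst _ _).symm (hm.2.trans (lift_snd _ _).symm)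
  have h3 := congrArg (· ≫ pullback.fst _ _) (hm.1.trans hx.symm)
  beta_reduce at h3
  rw [hm', mv_sAct_fst, mv_sAct_fst] at h3
  rw [hm', comp_i_injective i (mv_injective h3)]

include hY in
theorem sLoc : NonAbH1.IsLocallyTrivialFor Scheme.fppfPrecoverage (Over.mk (sπ j A).left : Over A.base.left) := by
  obtain ⟨R, hR, hsec⟩ := A.loc
  obtain ⟨I, Xs, f, rfl⟩ := Presieve.exists_eq_ofArrows R
  choose s hs using fun a => hsec (f a) (Presieve.ofArrows.mk a)
  obtain ⟨R', hR', hsec'⟩ := hY.2.2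
  obtain ⟨I', Ys, f', rfl⟩ := Presieve.exists_eq_ofArrows R'
  choose t ht using fun b => hsec' (f' b) (Presieve.ofArrows.mk b)
  refine ⟨Presieve.ofArrows (fun p : Σ _ : I, I' => pullback (f' p.2) (s p.1 ≫ A.φ.left))
    (fun p => pullback.snd (f' p.2) (s p.1 ≫ A.φ.left) ≫ f p.1),
    Precoverage.comp_mem_coverings f hR (fun a b => pullback.snd (f' b) (s a ≫ A.φ.left)) fun a => ?_, ?_⟩
  · exact Precoverage.mem_coverings_of_isPullback f' hR' (s a ≫ A.φ.left) _ (fun b => pullback.fst _ _)
      (fun b => (IsPullback.of_hasPullback _ _).flip)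
  rintro _ _ ⟨⟨a, b⟩⟩
  let W : Over S := Over.mk ((pullback.snd (f' b) (s a ≫ A.φ.left) ≫ f a) ≫ A.base.hom)
  have hsπ : s a ≫ A.π.left = f a := hs a
  let p₀ : W ⟶ A.P := Over.homMk (pullback.snd (f' b) (s a ≫ A.φ.left) ≫ s a) (by
    change (_ ≫ s a) ≫ A.P.hom = (_ ≫ f a) ≫ A.base.hom
    rw [← Over.w A.π, ← hsπ]
    simp only [Category.assoc])
  have htj : t b ≫ j.left = f' b := ht b
  have hl : (pullback.fst (f' b) (s a ≫ A.φ.left) ≫ t b) ≫ j.left = (p₀ ≫ A.φ).left := by
    change (_ ≫ t b) ≫ j.left = (_ ≫ s a) ≫ A.φ.left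
    rw [Category.assoc, htj, pullback.condition, Category.assoc]
  let gz : W ⟶ G ⊗ Z := Over.homMk (pullback.fst (f' b) (s a ≫ A.φ.left) ≫ t b) (by
    rw [← Over.w j, ← Category.assoc, hl]
    exact Over.w (p₀ ≫ A.φ))
  have hgz : lift (gz ≫ fst G Z) (gz ≫ snd G Z) ≫ j = p₀ ≫ A.φ := by
    rw [← comp_lift, lift_fst_snd, Category.comp_id]
    exact Over.OverMorphism.ext hl
  rw [pair_eq i hY] at hgz
  let σ : W ⟶ sP j A := pullback.lift (mv A.act (gz ≫ fst G Z)⁻¹ p₀) (gz ≫ snd G Z) (by
    rw [mv_φ, ← hgz, mv_inv_mv])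
  have hσ : σ ≫ sπ j A = p₀ ≫ A.π := by rw [← Category.assoc, pullback.lift_fst, mv_π]
  refine ⟨σ.left, ?_⟩
  change σ.left ≫ (sπ j A).left = pullback.snd (f' b) (s a ≫ A.φ.left) ≫ f a
  rw [← Over.comp_left, hσ]
  change (_ ≫ s a) ≫ A.π.left = _
  rw [Category.assoc, hsπ]

/-- The torsor attached to a torsor with a map to the balanced product. -/
@[reducible] noncomputable def fObj : AlgSt.QuotObj Scheme.fppfPrecoverage H aZ where
  base := A.base
  P := sP j A
  act := sAct i hY A
  π := sπ j A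
  cart := sCart i hY A
  loc := sLoc i hY A
  φ := pullback.snd _ _
  eqv := by
    rw [← mv_eq (sAct i hY A), mv_sAct_snd, show H ◁ pullback.snd A.φ (jz j) =
      lift (fst H _) (snd H _ ≫ pullback.snd A.φ (jz j)) from CartesianMonoidalCategory.hom_ext _ _ (by simp) (by simp)]

variable {A} {A' : AlgSt.QuotObj Scheme.fppfPrecoverage G aY}

variable (j) in
/-- The map of preimages. -/
noncomputable def sMap (m : A ⟶ A') : sP j A ⟶ sP j A' :=
  pullback.lift (pullback.fst _ _ ≫ m.top) (pullback.snd _ _) (by rw [Category.assoc, m.wφ, pullback.condition])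

theorem sMap_fst (m : A ⟶ A') : sMap j m ≫ pullback.fst _ _ = pullback.fst _ _ ≫ m.top := pullback.lift_fst _ _ _

theorem sMap_snd (m : A ⟶ A') : sMap j m ≫ pullback.snd _ _ = pullback.snd _ _ := pullback.lift_snd _ _ _

theorem mv_top (m : A ⟶ A') {W : Over S} (g : W ⟶ G) (p : W ⟶ A.P) :
    mv A.act g p ≫ m.top = mv A'.act g (p ≫ m.top) := by
  rw [Category.assoc, m.eqv, ← Category.assoc, lift_whiskerLeft]

theorem sMap_eqv (m : A ⟶ A') {W : Over S} (h : W ⟶ H) (p : W ⟶ sP j A) :
    mv (sAct i hY A) h p ≫ sMap j m = mv (sAct i hY A') h (p ≫ sMap j m) := by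
  apply pullback.hom_ext
  · rw [Category.assoc, sMap, pullback.lift_fst, mv_sAct_fst, ← Category.assoc, mv_sAct_fst, mv_top,
      Category.assoc p (pullback.lift _ _ _), pullback.lift_fst, Category.assoc]
  · rw [Category.assoc, sMap, pullback.lift_snd, mv_sAct_snd, mv_sAct_snd, Category.assoc p, pullback.lift_snd]

/-- The functor on morphisms. -/
noncomputable def fMap (m : A ⟶ A') : fObj i hY A ⟶ fObj i hY A' where
  base := m.base
  top := sMap j m
  eqv := by
    rw [← mv_eq (sAct i hY A), sMap_eqv, ← mv_eq (sAct i hY A'), comp_mv, whiskerLeft_fst, whiskerLeft_snd]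
  cart := (IsPullback.of_right (v₁₃ := jz j) (h₂₂ := A'.φ) (by
      rw [sMap_snd, m.wφ]
      exact (IsPullback.of_hasPullback A.φ (jz j)).flip) (sMap_fst m)
    (IsPullback.of_hasPullback A'.φ (jz j)).flip).paste_vert m.cart
  wφ := pullback.lift_snd _ _ _

/-- The functor from `[Y/G]` to `[Z/H]`. -/
noncomputable def slice : AlgSt.QuotSt Scheme.fppfPrecoverage G aY ⥤ᵇ AlgSt.QuotSt Scheme.fppfPrecoverage H aZ where
  toFunctor :=
    { obj := fun A => fObj i hY A
      map := fun m => fMap i hY m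
      map_id := fun A => AlgSt.QuotObj.hom_ext rfl (show sMap j (𝟙 A) = 𝟙 (sP j A) from by
        apply pullback.hom_ext
        · rw [sMap_fst, Category.id_comp]; exact Category.comp_id _
        · rw [sMap_snd, Category.id_comp])
      map_comp := fun {A B C} m n => AlgSt.QuotObj.hom_ext rfl (show sMap j (m ≫ n) = sMap j m ≫ sMap j n from by
        apply pullback.hom_ext
        · rw [sMap_fst, Category.assoc, sMap_fst, ← Category.assoc, sMap_fst, Category.assoc]; rfl
        · rw [sMap_snd, Category.assoc, sMap_snd, sMap_snd]) }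
  w := rfl

end Groth.Agent.BalQuotLib
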